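import Groth.Agent.Pi1.K260.D1Plan2

/-!
# D1-COBA: the comparison functions are coboundaries over the closed fibre
-/

set_option autoImplicit false
universe u

open CategoryTheory CategoryTheory.Limits AlgebraicGeometry IsLocalRing

namespace K471.D1Coba

open K260.D1 Groth.Agent.Etrest.StrictLoc K868.Bc

/-- Lifting of geometric points along étale morphisms. -/
theorem exists_lift_et {M Y : Scheme.{u}} (f : M ⟶ Y) (hf : Etale f) {K : Type u} [Field K] [IsAlgClosed K]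
    (y : Spec (CommRingCat.of K) ⟶ Y) (m : M) (h : f m = y default) :
    ∃ l : Spec (CommRingCat.of K) ⟶ M, l ≫ f = y := by
  obtain ⟨l, hl, -⟩ := Scheme.exists_fac_of_etale_of_isSepClosed f y m h
  exact ⟨l, hl⟩

theorem app2 {A B C D : Scheme.{u}} {f : A ⟶ B} {g : B ⟶ C} {f' : A ⟶ D} {g' : D ⟶ C} (h : f ≫ g = f' ≫ g')
    (x : A) : g (f x) = g' (f' x) := by
  rw [← Scheme.Hom.comp_apply, h, Scheme.Hom.comp_apply]

theorem app1 {A B C : Scheme.{u}} {f : A ⟶ B} {g : B ⟶ C} {f' : A ⟶ C} (h : f ≫ g = f')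
    (x : A) : g (f x) = f' x := by
  rw [← Scheme.Hom.comp_apply, h]

section Val

variable {G : Type} [Group G] {X Z W T : Scheme.{u}} {j : X ⟶ Z} {w : W ⟶ X} {t : T ⟶ Z} {P₀ : FEt.Cat W}
  {ρ₀ : G →* Aut P₀} {B B' : Scheme.{u}} {b : B ⟶ Z} {b' : B' ⟶ Z}

/-- `T ×_Z B ×_Z B'`. -/
noncomputable abbrev TB (t : T ⟶ Z) (b : B ⟶ Z) (b' : B' ⟶ Z) : Scheme.{u} :=
  pullback t (pullback.fst b b' ≫ b)

/-- Points of `TB`. -/
noncomputable def tb {A : Scheme.{u}} (t : T ⟶ Z) (b : B ⟶ Z) (b' : B' ⟶ Z) (z : A ⟶ T) (β : A ⟶ B) (β' : A ⟶ B')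
    (e : z ≫ t = β ≫ b) (e' : β ≫ b = β' ≫ b') : A ⟶ TB t b b' :=
  pullback.lift z (pullback.lift β β' e') (by rw [pullback.lift_fst_assoc, e])

theorem tb_congr {A : Scheme.{u}} {z z' : A ⟶ T} {β γ : A ⟶ B} {β' γ' : A ⟶ B'} (hz : z = z') (h : β = γ)
    (h' : β' = γ') (e : z ≫ t = β ≫ b) (e' : β ≫ b = β' ≫ b') (f : z' ≫ t = γ ≫ b) (f' : γ ≫ b = γ' ≫ b') :
    tb t b b' z β β' e e' = tb t b b' z' γ γ' f f' := by
  subst hz h h'
  rfl

theorem comp_tb {A A' : Scheme.{u}} (k : A' ⟶ A) (z : A ⟶ T) (β : A ⟶ B) (β' : A ⟶ B') (e : z ≫ t = β ≫ b)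
    (e' : β ≫ b = β' ≫ b') (f : (k ≫ z) ≫ t = (k ≫ β) ≫ b) (f' : (k ≫ β) ≫ b = (k ≫ β') ≫ b') :
    k ≫ tb t b b' z β β' e e' = tb t b b' (k ≫ z) (k ≫ β) (k ≫ β') f f' := by
  apply pullback.hom_ext
  · rw [Category.assoc, tb, tb, pullback.lift_fst, pullback.lift_fst]
  · rw [Category.assoc, tb, tb, pullback.lift_snd, pullback.lift_snd]
    apply pullback.hom_ext
    · rw [Category.assoc, pullback.lift_fst, pullback.lift_fst]
    · rw [Category.assoc, pullback.lift_snd, pullback.lift_snd]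

/-- The map `T ×_Z C.M ⟶ T ×_Z B ×_Z B'`. -/
noncomputable def cm {F : FSol t j w P₀ ρ₀ b} {F' : FSol t j w P₀ ρ₀ b'} (C : Cmp F F') :
    pullback t (C.m ≫ b) ⟶ TB t b b' :=
  tmap t (pullback.lift C.m C.m' C.h.symm) (by rw [pullback.lift_fst_assoc])

/-- `tmap` is a base change. -/
theorem isPullback_tmap {M N : Scheme.{u}} {c : M ⟶ Z} {c₂ : N ⟶ Z} (t : T ⟶ Z) (n : N ⟶ M) (h : n ≫ c = c₂) :
    IsPullback (tmap t n h) (pullback.snd t c₂) (pullback.snd t c) n := by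
  refine IsPullback.of_right (h₁₂ := pullback.fst t c) (v₁₃ := t) (h₂₂ := c) ?_ (tmap_snd n h)
    (IsPullback.of_hasPullback t c)
  rw [tmap_fst]
  subst h
  exact IsPullback.of_hasPullback t (n ≫ c)

theorem etale_cm {F : FSol t j w P₀ ρ₀ b} {F' : FSol t j w P₀ ρ₀ b'} (C : Cmp F F') : Etale (cm C) := by
  have h1 := isPullback_tmap t (pullback.lift C.m C.m' C.h.symm) (c := pullback.fst b b' ≫ b) (c₂ := C.m ≫ b)
    (by rw [pullback.lift_fst_assoc])
  exact MorphismProperty.of_isPullback (P := @Etale) h1.flip C.et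

theorem lift_cm {F : FSol t j w P₀ ρ₀ b} {F' : FSol t j w P₀ ρ₀ b'} (C : Cmp F F') {A : Scheme.{u}} (z : A ⟶ T)
    (l : A ⟶ C.M) (e : z ≫ t = l ≫ C.m ≫ b) (e' : z ≫ t = (l ≫ C.m) ≫ b) (e'' : (l ≫ C.m) ≫ b = (l ≫ C.m') ≫ b') :
    pullback.lift z l e ≫ cm C = tb t b b' z (l ≫ C.m) (l ≫ C.m') e' e'' := by
  rw [cm, lift_tmap _ _ z l e (by rw [Category.assoc, pullback.lift_fst_assoc, e]), tb]
  apply pullback.hom_ext
  · rw [pullback.lift_fst, pullback.lift_fst]
  · rw [pullback.lift_snd, pullback.lift_snd]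
    apply pullback.hom_ext
    · rw [Category.assoc, pullback.lift_fst, pullback.lift_fst]
    · rw [Category.assoc, pullback.lift_snd, pullback.lift_snd]

open Classical in
/-- The value of the comparison functions at a point of `T ×_Z B ×_Z B'`. -/
noncomputable def val (F : FSol t j w P₀ ρ₀ b) (F' : FSol t j w P₀ ρ₀ b') (q : ↥(TB t b b')) : G :=
  if h : ∃ (C : Cmp F F') (a : ↥(pullback t (C.m ≫ b))), cm C a = q then
    h.choose.H h.choose_spec.choose
  else 1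

end Val

section Ctx

/-- The hypotheses, packed. -/
structure Ctx (R : Type u) [CommRing R] [IsLocalRing R] {X Z W T : Scheme.{u}}
    (p : Z ⟶ Spec (CommRingCat.of R)) (j : X ⟶ Z) (w : W ⟶ X) (t : T ⟶ Z) (G : Type) [Group G] [Finite G]
    (P₀ : FEt.Cat W) (ρ₀ : G →* Aut P₀) : Prop where
  oi : IsOpenImmersion j
  qc : QuasiCompact j
  ci : IsClosedImmersion w
  aic : AicCov j t
  loc : Loc p j w G
  prin : SGA1t.IsPrincipal G P₀ ρ₀
  ex : CmpEx.{u}
  comp : CmpComp.{u}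

variable {R : Type u} [CommRing R] [IsLocalRing R] {X Z W T : Scheme.{u}}
  {p : Z ⟶ Spec (CommRingCat.of R)} {j : X ⟶ Z} {w : W ⟶ X} {t : T ⟶ Z} {G : Type} [Group G] [Finite G]
  {P₀ : FEt.Cat W} {ρ₀ : G →* Aut P₀}
  {B B' B'' : Scheme.{u}} {b : B ⟶ Z} {b' : B' ⟶ Z} {b'' : B'' ⟶ Z}

theorem Ctx.exists_cmp_pt (c : Ctx R p j w t G P₀ ρ₀) (hb : Etale b) (hb' : Etale b') (F : FSol t j w P₀ ρ₀ b)
    (F' : FSol t j w P₀ ρ₀ b') {K : Type u} [Field K] [IsAlgClosed K] (β : Spec (CommRingCat.of K) ⟶ B)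
    (β' : Spec (CommRingCat.of K) ⟶ B') (e : β ≫ b = β' ≫ b') (h : p (b (β default)) = closedPoint R) :
    ∃ (C : Cmp F F') (l : Spec (CommRingCat.of K) ⟶ C.M), l ≫ C.m = β ∧ l ≫ C.m' = β' := by
  obtain ⟨C, y', hy'⟩ := c.ex R p j w t c.oi c.qc c.ci c.aic G c.loc P₀ ρ₀ c.prin b b' hb hb' F F'
    (pullback.lift β β' e default) ((congrArg (fun y => p (b y)) (app1 (pullback.lift_fst β β' e) default)).trans h)
  obtain ⟨l, hl⟩ := exists_lift_et _ C.et (pullback.lift β β' e) y' hy'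
  refine ⟨C, l, ?_, ?_⟩
  · have := congrArg (· ≫ pullback.fst b b') hl
    simpa only [Category.assoc, pullback.lift_fst] using this
  · have := congrArg (· ≫ pullback.snd b b') hl
    simpa only [Category.assoc, pullback.lift_snd] using this

/-- Uniqueness, for geometric points. -/
theorem Ctx.eq_pt (c : Ctx R p j w t G P₀ ρ₀) (hb : Etale b) (hb' : Etale b') {F : FSol t j w P₀ ρ₀ b}
    {F' : FSol t j w P₀ ρ₀ b'} (C C₁ : Cmp F F') {K : Type u} [Field K] [IsAlgClosed K]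
    (z : Spec (CommRingCat.of K) ⟶ T) (l : Spec (CommRingCat.of K) ⟶ C.M) (l₁ : Spec (CommRingCat.of K) ⟶ C₁.M)
    (e₁ : l ≫ C.m = l₁ ≫ C₁.m) (e₂ : l ≫ C.m' = l₁ ≫ C₁.m') (e : z ≫ t = l ≫ C.m ≫ b)
    (e' : z ≫ t = l₁ ≫ C₁.m ≫ b) (hz : p (t (z default)) = closedPoint R) :
    C.H (pullback.lift z l e default) = C₁.H (pullback.lift z l₁ e' default) := by
  have h1 : p (b' ((l ≫ C.m') default)) = closedPoint R := by
    rw [← hz]
    congr 1
    rw [← Scheme.Hom.comp_apply, ← Scheme.Hom.comp_apply, Category.assoc, C.h, e]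
  obtain ⟨D, l', h2, h3⟩ := c.exists_cmp_pt hb' hb' F' F' (l ≫ C.m') (l ≫ C.m') rfl h1
  have h4 : z ≫ t = l' ≫ D.m ≫ b' := by
    rw [← Category.assoc l', h2, Category.assoc, C.h, e]
  have k1 := c.comp R p j w t c.oi c.qc c.ci c.aic G c.loc P₀ ρ₀ c.prin b b' b' hb hb' hb' F F' F' C D C K z l l' l
    rfl h2.symm h3 e h4 e hz
  have k2 := c.comp R p j w t c.oi c.qc c.ci c.aic G c.loc P₀ ρ₀ c.prin b b' b' hb hb' hb' F F' F' C₁ D C K z l₁ l' l
    e₁.symm (e₂.symm.trans h2.symm) h3 e' h4 e hz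
  have k3 : D.H (pullback.lift z l' h4 default) = 1 := by
    have := k1.symm
    rwa [mul_eq_right] at this
  rw [k2, k3, one_mul]

/-- Uniqueness, for points. -/
theorem Ctx.eq_of_cm (c : Ctx R p j w t G P₀ ρ₀) (hb : Etale b) (hb' : Etale b') {F : FSol t j w P₀ ρ₀ b}
    {F' : FSol t j w P₀ ρ₀ b'} (C C₁ : Cmp F F') (a : ↥(pullback t (C.m ≫ b))) (a₁ : ↥(pullback t (C₁.m ≫ b)))
    (h : cm C a = cm C₁ a₁) (ha : p (t (pullback.fst t (C.m ≫ b) a)) = closedPoint R) : C.H a = C₁.H a₁ := by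
  obtain ⟨v, hv, hv₁⟩ := Scheme.Pullback.exists_preimage_pullback a a₁ h
  obtain ⟨K, _, _, κ, hκ⟩ := K260.Dif.exists_pt v
  obtain ⟨s, s₁, e1, d1, d2⟩ : ∃ (s : Spec (CommRingCat.of K) ⟶ pullback t (C.m ≫ b))
      (s₁ : Spec (CommRingCat.of K) ⟶ pullback t (C₁.m ≫ b)), s ≫ cm C = s₁ ≫ cm C₁ ∧ s default = a ∧
      s₁ default = a₁ := by
    refine ⟨κ ≫ pullback.fst (cm C) (cm C₁), κ ≫ pullback.snd (cm C) (cm C₁), ?_, ?_, ?_⟩
    · rw [Category.assoc, Category.assoc, pullback.condition]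
    · rw [Scheme.Hom.comp_apply, hκ, hv]
    · rw [Scheme.Hom.comp_apply, hκ, hv₁]
  have f1 : (s ≫ pullback.fst _ _) ≫ t = (s ≫ pullback.snd _ _) ≫ C.m ≫ b := by
    rw [Category.assoc, Category.assoc, pullback.condition]
  have f2 : (s₁ ≫ pullback.fst _ _) ≫ t = (s₁ ≫ pullback.snd _ _) ≫ C₁.m ≫ b := by
    rw [Category.assoc, Category.assoc, pullback.condition]
  have q1 : s ≫ pullback.fst _ _ = s₁ ≫ pullback.fst _ _ := by
    have := congrArg (· ≫ pullback.fst _ _) e1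
    simpa only [Category.assoc, cm, tmap_fst] using this
  have q2 : (s ≫ pullback.snd _ _) ≫ C.m = (s₁ ≫ pullback.snd _ _) ≫ C₁.m := by
    have := congrArg (· ≫ pullback.snd _ _ ≫ pullback.fst _ _) e1
    simp only [Category.assoc, cm] at this
    rw [← Category.assoc (tmap _ _ _), ← Category.assoc (tmap _ _ _), tmap_snd, tmap_snd] at this
    simpa only [Category.assoc, pullback.lift_fst] using this
  have q3 : (s ≫ pullback.snd _ _) ≫ C.m' = (s₁ ≫ pullback.snd _ _) ≫ C₁.m' := by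
    have := congrArg (· ≫ pullback.snd _ _ ≫ pullback.snd _ _) e1
    simp only [Category.assoc, cm] at this
    rw [← Category.assoc (tmap _ _ _), ← Category.assoc (tmap _ _ _), tmap_snd, tmap_snd] at this
    simpa only [Category.assoc, pullback.lift_snd] using this
  have hz : p (t ((s ≫ pullback.fst _ _) default)) = closedPoint R := by
    rw [Scheme.Hom.comp_apply, d1, ha]
  have f3 : (s ≫ pullback.fst _ _) ≫ t = (s₁ ≫ pullback.snd _ _) ≫ C₁.m ≫ b := by
    rw [q1, f2]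
  have r1 : pullback.lift (s ≫ pullback.fst _ _) (s ≫ pullback.snd _ _) f1 = s := by
    apply pullback.hom_ext
    · rw [pullback.lift_fst]
    · rw [pullback.lift_snd]
  have r2 : pullback.lift (s ≫ pullback.fst _ _) (s₁ ≫ pullback.snd _ _) f3 = s₁ := by
    apply pullback.hom_ext
    · rw [pullback.lift_fst, q1]
    · rw [pullback.lift_snd]
  have r3 := c.eq_pt hb hb' C C₁ (s ≫ pullback.fst _ _) (s ≫ pullback.snd _ _) (s₁ ≫ pullback.snd _ _) q2 q3 f1 f3 hz
  rwa [r1, r2, d1, d2] at r3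

theorem Ctx.val_eq (c : Ctx R p j w t G P₀ ρ₀) (hb : Etale b) (hb' : Etale b') {F : FSol t j w P₀ ρ₀ b}
    {F' : FSol t j w P₀ ρ₀ b'} (C : Cmp F F') (a : ↥(pullback t (C.m ≫ b)))
    (ha : p (t (pullback.fst t (C.m ≫ b) a)) = closedPoint R) : val F F' (cm C a) = C.H a := by
  have h : ∃ (C' : Cmp F F') (a' : ↥(pullback t (C'.m ≫ b))), cm C' a' = cm C a := ⟨C, a, rfl⟩
  rw [val, dif_pos h]
  refine (c.eq_of_cm hb hb' C h.choose a h.choose_spec.choose h.choose_spec.choose_spec.symm ha).symm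

/-- The value at geometric points. -/
theorem Ctx.val_pt (c : Ctx R p j w t G P₀ ρ₀) (hb : Etale b) (hb' : Etale b') {F : FSol t j w P₀ ρ₀ b}
    {F' : FSol t j w P₀ ρ₀ b'} (C : Cmp F F') {K : Type u} [Field K] [IsAlgClosed K]
    (z : Spec (CommRingCat.of K) ⟶ T) (l : Spec (CommRingCat.of K) ⟶ C.M) (e : z ≫ t = l ≫ C.m ≫ b)
    (hz : p (t (z default)) = closedPoint R) (β : Spec (CommRingCat.of K) ⟶ B) (β' : Spec (CommRingCat.of K) ⟶ B')
    (hβ : l ≫ C.m = β) (hβ' : l ≫ C.m' = β') (f : z ≫ t = β ≫ b) (f' : β ≫ b = β' ≫ b') :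
    val F F' (tb t b b' z β β' f f' default) = C.H (pullback.lift z l e default) := by
  subst hβ hβ'
  rw [← lift_cm C z l e f f', Scheme.Hom.comp_apply, c.val_eq hb hb' C]
  exact (congrArg (fun y => p (t y)) (app1 (pullback.lift_fst z l e) default)).trans hz

/-- The cocycle condition. -/
theorem Ctx.val_mul (c : Ctx R p j w t G P₀ ρ₀) (hb : Etale b) (hb' : Etale b') (hb'' : Etale b'')
    (F : FSol t j w P₀ ρ₀ b) (F' : FSol t j w P₀ ρ₀ b') (F'' : FSol t j w P₀ ρ₀ b'') {K : Type u} [Field K]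
    [IsAlgClosed K] (z : Spec (CommRingCat.of K) ⟶ T) (β : Spec (CommRingCat.of K) ⟶ B)
    (β' : Spec (CommRingCat.of K) ⟶ B') (β'' : Spec (CommRingCat.of K) ⟶ B'') (e : z ≫ t = β ≫ b)
    (e' : z ≫ t = β' ≫ b') (e₁ : β ≫ b = β' ≫ b') (e₂ : β' ≫ b' = β'' ≫ b'') (e₃ : β ≫ b = β'' ≫ b'')
    (hz : p (t (z default)) = closedPoint R) :
    val F F'' (tb t b b'' z β β'' e e₃ default) =
      val F' F'' (tb t b' b'' z β' β'' e' e₂ default) * val F F' (tb t b b' z β β' e e₁ default) := by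
  have hβ : p (b (β default)) = closedPoint R := (congrArg (fun y => p y) (app2 e default).symm).trans hz
  have hβ' : p (b' (β' default)) = closedPoint R := (congrArg (fun y => p y) (app2 e' default).symm).trans hz
  obtain ⟨C, l, h1, h2⟩ := c.exists_cmp_pt hb hb' F F' β β' e₁ hβ
  obtain ⟨C', l', h1', h2'⟩ := c.exists_cmp_pt hb' hb'' F' F'' β' β'' e₂ hβ'
  obtain ⟨C'', l'', h1'', h2''⟩ := c.exists_cmp_pt hb hb'' F F'' β β'' e₃ hβ
  have f : z ≫ t = l ≫ C.m ≫ b := by rw [← Category.assoc, h1, e]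
  have f' : z ≫ t = l' ≫ C'.m ≫ b' := by rw [← Category.assoc, h1', e']
  have f'' : z ≫ t = l'' ≫ C''.m ≫ b := by rw [← Category.assoc, h1'', e]
  rw [c.val_pt hb hb' C z l f hz β β' h1 h2, c.val_pt hb' hb'' C' z l' f' hz β' β'' h1' h2',
    c.val_pt hb hb'' C'' z l'' f'' hz β β'' h1'' h2'']
  exact c.comp R p j w t c.oi c.qc c.ci c.aic G c.loc P₀ ρ₀ c.prin b b' b'' hb hb' hb'' F F' F'' C C' C'' K z l l' l''
    (h1.trans h1''.symm) (h2.trans h1'.symm) (h2'.trans h2''.symm) f f' f'' hz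

/-- Local constancy. -/
theorem Ctx.val_lc (c : Ctx R p j w t G P₀ ρ₀) (hb : Etale b) (hb' : Etale b') (F : FSol t j w P₀ ρ₀ b)
    (F' : FSol t j w P₀ ρ₀ b') {Q : Scheme.{u}} (φ : Q ⟶ TB t b b')
    (hφ : ∀ x : Q, p (t (pullback.fst t (pullback.fst b b' ≫ b) (φ x))) = closedPoint R) :
    IsLocallyConstant (fun x => val F F' (φ x)) := by
  rw [IsLocallyConstant.iff_exists_open]
  intro x
  obtain ⟨K, _, _, κ, hκ⟩ := K260.Dif.exists_pt (φ x)
  have e1 : (κ ≫ pullback.fst _ _) ≫ t = (κ ≫ pullback.snd _ _ ≫ pullback.fst _ _) ≫ b := by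
    rw [Category.assoc, pullback.condition]
    simp only [Category.assoc]
  have e2 : (κ ≫ pullback.snd t (pullback.fst b b' ≫ b) ≫ pullback.fst b b') ≫ b =
      (κ ≫ pullback.snd t (pullback.fst b b' ≫ b) ≫ pullback.snd b b') ≫ b' := by
    simpa only [Category.assoc] using
      congrArg (fun s => κ ≫ pullback.snd t (pullback.fst b b' ≫ b) ≫ s) (pullback.condition (f := b) (g := b'))
  have e3 : κ = tb t b b' (κ ≫ pullback.fst _ _) (κ ≫ pullback.snd _ _ ≫ pullback.fst _ _)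
      (κ ≫ pullback.snd _ _ ≫ pullback.snd _ _) e1 e2 := by
    apply pullback.hom_ext
    · rw [tb, pullback.lift_fst]
    · rw [tb, pullback.lift_snd]
      apply pullback.hom_ext
      · rw [pullback.lift_fst, Category.assoc]
      · rw [pullback.lift_snd, Category.assoc]
  have hz : p (t ((κ ≫ pullback.fst t (pullback.fst b b' ≫ b)) default)) = closedPoint R := by
    rw [Scheme.Hom.comp_apply, hκ]
    exact hφ x
  obtain ⟨C, l, h1, h2⟩ := c.exists_cmp_pt hb hb' F F' (κ ≫ pullback.snd _ _ ≫ pullback.fst _ _)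
    (κ ≫ pullback.snd _ _ ≫ pullback.snd _ _) e2 ((congrArg (fun y => p y) (app2 e1 default).symm).trans hz)
  have f : (κ ≫ pullback.fst _ _) ≫ t = l ≫ C.m ≫ b := by rw [← Category.assoc l, h1, e1]
  set a : ↥(pullback t (C.m ≫ b)) := pullback.lift _ l f default with ha
  have ha' : cm C a = φ x := by
    rw [ha, ← Scheme.Hom.comp_apply, lift_cm C _ l f (by rw [h1, e1]) (by rw [h1, h2, e2]), ← hκ]
    conv_rhs => rw [e3]
    exact congrArg (fun s : Spec (CommRingCat.of K) ⟶ TB t b b' => s default) (tb_congr rfl h1 h2 _ _ _ _)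
  have hcl : ∀ a' : ↥(pullback t (C.m ≫ b)), ∀ x', cm C a' = φ x' →
      p (t (pullback.fst t (C.m ≫ b) a')) = closedPoint R := by
    intro a' x' h
    rw [← hφ x', ← h, ← Scheme.Hom.comp_apply (cm C), cm, tmap_fst]
  obtain ⟨V, hV, haV, hV'⟩ := (IsLocallyConstant.iff_exists_open C.H).1 C.lc a
  have hop : IsOpenMap (cm C) := by
    have := etale_cm C
    exact (cm C).isOpenMap
  refine ⟨φ ⁻¹' (cm C '' V), (hop V hV).preimage φ.continuous, ⟨a, haV, ha'⟩, ?_⟩
  rintro x' ⟨a', ha'V, hx'⟩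
  have g1 : val F F' (φ x') = C.H a' := by
    rw [← hx']
    exact c.val_eq hb hb' C a' (hcl a' x' hx')
  have g2 : val F F' (φ x) = C.H a := by
    rw [← ha']
    exact c.val_eq hb hb' C a (hcl a x ha')
  change val F F' (φ x') = val F F' (φ x)
  rw [g1, g2]
  exact hV' a' ha'V

end Ctx

section Frame

variable {G : Type} [Group G] {X Z W T : Scheme.{u}} {j : X ⟶ Z} {w : W ⟶ X} {t : T ⟶ Z} {P₀ : FEt.Cat W}
  {ρ₀ : G →* Aut P₀} {B : Scheme.{u}} {b : B ⟶ Z}

/-- Frames exist. -/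
theorem exists_frame (hj : IsOpenImmersion j) (hT : AicCov j t) (hb : Etale b) (S : Sol j w P₀ ρ₀ b) :
    ∃ F : FSol t j w P₀ ρ₀ b, F.S = S := by
  have hm : Etale (xT j t b) := by
    have h1 : Etale (pullback.fst t b) := inferInstance
    have h2 : IsOpenImmersion (xq j t b) := inferInstance
    rw [← xq_fst]
    infer_instance
  have hf : IsFinite S.P.hom := S.P.prop.1
  have he : Etale S.P.hom := S.P.prop.2
  have hs : Surjective S.P.hom := ⟨S.prin.1⟩
  obtain ⟨s, hs⟩ := hT.sec (xT j t b) hm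
    (pullback.snd S.P.hom (pullback.fst (pullback.snd j b) (pullback.snd t b))) inferInstance inferInstance
    inferInstance
  refine ⟨⟨S, s ≫ pullback.fst _ _, ?_⟩, rfl⟩
  rw [Category.assoc, pullback.condition, ← Category.assoc, hs, Category.id_comp]

end Frame

/-- Étale morphisms from affine schemes are quasi-compact if `Z` is separated over an affine scheme. -/
theorem quasiCompact_of_affine {R : Type u} [CommRing R] {Z B : Scheme.{u}} (p : Z ⟶ Spec (CommRingCat.of R))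
    [QuasiSeparated p] (b : B ⟶ Z) [IsAffine B] : QuasiCompact b := by
  have : QuasiCompact (b ≫ p) := inferInstance
  exact QuasiCompact.of_comp b p

theorem cobA (h₁ : Loc1.{u}) (h₂ : CmpEx.{u}) (h₃ : CmpComp.{u}) (h₄ : NC.{u}) (h₅ : H1.{u}) : CobA.{u} := by
  intro R _ _ hR X Z W T p j w t hp hj hjq hw hT G _ _ hL P₀ ρ₀ hP₀
  have c : Ctx R p j w t G P₀ ρ₀ := ⟨hj, hjq, hw, hT, hL, hP₀, h₂, h₃⟩
  -- local solutions
  choose B b hb hB v hv hS using fun z : {z : Z // p z = closedPoint R} =>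
    h₁ R p j w hj hjq hw G hL P₀ ρ₀ hP₀ z.1 z.2
  have hF : ∀ z, Nonempty (FSol t j w P₀ ρ₀ (b z)) := fun z => by
    obtain ⟨F, -⟩ := exists_frame hj hT (hb z) (hS z).some
    exact ⟨F⟩
  -- finitely many cover the closed fibre
  have hcl : IsClosed {z : Z | p z = closedPoint R} :=
    (IsLocalRing.isClosed_singleton_closedPoint R).preimage p.continuous
  have hZ : CompactSpace Z := QuasiCompact.compactSpace_of_compactSpace p
  obtain ⟨s, hs⟩ := hcl.isCompact.elim_finite_subcover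
    (fun z : {z : Z // p z = closedPoint R} => Set.range (b z))
    (fun z => by
      have := hb z
      exact (b z).isOpenMap.isOpen_range)
    (fun z hz => Set.mem_iUnion.2 ⟨⟨z, hz⟩, ⟨v ⟨z, hz⟩, hv ⟨z, hz⟩⟩⟩)
  let en : Fin s.card → {z : Z // p z = closedPoint R} := fun i => (s.equivFin.symm i).1
  have hcov : ∀ z : Z, p z = closedPoint R → ∃ i, z ∈ Set.range (b (en i)) := by
    intro z hz
    obtain ⟨y, hy⟩ := Set.mem_iUnion.1 (hs hz)
    obtain ⟨hys, hzy⟩ := Set.mem_iUnion.1 hy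
    refine ⟨s.equivFin ⟨y, hys⟩, ?_⟩
    have : en (s.equivFin ⟨y, hys⟩) = y := by
      simp only [en, Equiv.symm_apply_apply]
    rw [this]
    exact hzy
  let F : ∀ i, FSol t j w P₀ ρ₀ (b (en i)) := fun i => (hF (en i)).some
  have hbe : ∀ i, Etale (b (en i)) := fun i => hb _
  -- the torsor over the closed fibre of `T`
  let iT : pullback (t ≫ p) (resPt R) ⟶ T := pullback.fst (t ≫ p) (resPt R)
  have hiT : ∀ x, p (t (iT x)) = closedPoint R := by
    intro x
    have h := app2 (pullback.condition (f := t ≫ p) (g := resPt R)) x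
    rw [resPt_closedPoint] at h
    exact h
  let T' : Fin s.card → Scheme.{u} := fun i => pullback (iT ≫ t) (b (en i))
  let π : ∀ i, T' i ⟶ pullback (t ≫ p) (resPt R) := fun i => pullback.fst (iT ≫ t) (b (en i))
  have hcond : ∀ i, (π i ≫ iT) ≫ t = pullback.snd (iT ≫ t) (b (en i)) ≫ b (en i) := fun i =>
    (Category.assoc _ _ _).trans pullback.condition
  have hcf : CovFam T' π := by
    refine ⟨fun x => ?_, Or.inl fun i => ⟨inferInstance, ?_⟩⟩
    · obtain ⟨i, y, hy⟩ := hcov (t (iT x)) (hiT x)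
      obtain ⟨a, ha, -⟩ := Scheme.Pullback.exists_preimage_pullback (f := iT ≫ t) (g := b (en i)) x y hy.symm
      exact ⟨i, a, ha⟩
    · have := hB (en i)
      have : QuasiCompact (b (en i)) := quasiCompact_of_affine p _
      exact inferInstanceAs (QuasiCompact (pullback.fst (iT ≫ t) (b (en i))))
  have hφ1 : ∀ i i', (pullback.fst (π i) (π i') ≫ π i ≫ iT) ≫ t =
      (pullback.fst (π i) (π i') ≫ pullback.snd _ _) ≫ b (en i) := by
    intro i i'
    rw [Category.assoc, hcond, Category.assoc]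
  have hφ2 : ∀ i i', (pullback.fst (π i) (π i') ≫ pullback.snd (iT ≫ t) (b (en i))) ≫ b (en i) =
      (pullback.snd (π i) (π i') ≫ pullback.snd (iT ≫ t) (b (en i'))) ≫ b (en i') := by
    intro i i'
    rw [← hφ1, Category.assoc (pullback.snd _ _), ← hcond]
    simp only [Category.assoc]
    rw [pullback.condition_assoc]
  let φ : ∀ i i', pullback (π i) (π i') ⟶ TB t (b (en i)) (b (en i')) := fun i i' =>
    tb t _ _ (pullback.fst (π i) (π i') ≫ π i ≫ iT) (pullback.fst _ _ ≫ pullback.snd _ _)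
      (pullback.snd _ _ ≫ pullback.snd _ _) (hφ1 i i') (hφ2 i i')
  have hφ : ∀ i i' x, p (t (pullback.fst t _ (φ i i' x))) = closedPoint R := by
    intro i i' x
    have h1 : φ i i' ≫ pullback.fst t _ = pullback.fst (π i) (π i') ≫ π i ≫ iT := pullback.lift_fst _ _ _
    rw [app1 h1 x]
    exact hiT _
  let g : ∀ i i', ↥(pullback (π i) (π i')) → G := fun i i' a => val (F i) (F i') (φ i i' a)
  -- values at geometric points
  have hg : ∀ (i i' : Fin s.card) (K : Type u) [Field K] [IsAlgClosed K] (x : Spec (CommRingCat.of K) ⟶ T' i)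
      (y : Spec (CommRingCat.of K) ⟶ T' i') (h : x ≫ π i = y ≫ π i') (z : Spec (CommRingCat.of K) ⟶ T)
      (hz : x ≫ π i ≫ iT = z) (β : Spec (CommRingCat.of K) ⟶ B (en i)) (hβ : x ≫ pullback.snd _ _ = β)
      (β' : Spec (CommRingCat.of K) ⟶ B (en i')) (hβ' : y ≫ pullback.snd _ _ = β') (e : z ≫ t = β ≫ b (en i))
      (e' : β ≫ b (en i) = β' ≫ b (en i')),
      g i i' (pullback.lift x y h default) = val (F i) (F i') (tb t _ _ z β β' e e' default) := by
    intro i i' K _ _ x y h z hz β hβ β' hβ' e e'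
    subst hz hβ hβ'
    change val (F i) (F i') (φ i i' (pullback.lift x y h default)) = _
    congr 1
    refine app1 ?_ default
    rw [comp_tb (pullback.lift x y h) _ _ _ (hφ1 i i') (hφ2 i i')
      ((Category.assoc _ _ _).trans ((congrArg (pullback.lift x y h ≫ ·) (hφ1 i i')).trans (Category.assoc _ _ _).symm))
      ((Category.assoc _ _ _).trans ((congrArg (pullback.lift x y h ≫ ·) (hφ2 i i')).trans (Category.assoc _ _ _).symm))]
    exact tb_congr (pullback.lift_fst_assoc _ _ _ _) (pullback.lift_fst_assoc _ _ _ _)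
      (pullback.lift_snd_assoc _ _ _ _) _ _ _ _
  have hco : Cocyc T' π G g := by
    refine ⟨fun i i' => c.val_lc (hbe i) (hbe i') (F i) (F i') (φ i i') (hφ i i'), ?_⟩
    intro i i' i'' K _ _ x y z h h'
    have e1 : (x ≫ π i ≫ iT) ≫ t = (x ≫ pullback.snd _ _) ≫ b (en i) := by
      rw [Category.assoc, hcond, Category.assoc]
    have e2 : (y ≫ π i' ≫ iT) ≫ t = (y ≫ pullback.snd _ _) ≫ b (en i') := by
      rw [Category.assoc, hcond, Category.assoc]
    have e3 : (z ≫ π i'' ≫ iT) ≫ t = (z ≫ pullback.snd _ _) ≫ b (en i'') := by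
      rw [Category.assoc, hcond, Category.assoc]
    have q1 : y ≫ π i' ≫ iT = x ≫ π i ≫ iT := by
      rw [← Category.assoc, ← h, Category.assoc]
    have q2 : z ≫ π i'' ≫ iT = x ≫ π i ≫ iT := by
      rw [← Category.assoc, ← h', ← h, Category.assoc]
    have f2 : (x ≫ π i ≫ iT) ≫ t = (y ≫ pullback.snd _ _) ≫ b (en i') := by rw [← q1, e2]
    have f3 : (x ≫ π i ≫ iT) ≫ t = (z ≫ pullback.snd _ _) ≫ b (en i'') := by rw [← q2, e3]
    rw [hg i i'' K x z (h.trans h') _ rfl _ rfl _ rfl e1 (e1.symm.trans f3),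
      hg i' i'' K y z h' _ q1 _ rfl _ rfl f2 (f2.symm.trans f3), hg i i' K x y h _ rfl _ rfl _ rfl e1 (e1.symm.trans f2)]
    refine c.val_mul (hbe i) (hbe i') (hbe i'') (F i) (F i') (F i'') _ _ _ _ e1 f2 _ _ _ ?_
    have h1 := hiT ((x ≫ π i) default)
    rwa [app1 (Category.assoc x (π i) iT) default] at h1
  -- the cocycle is a coboundary
  obtain ⟨k, hk, hk'⟩ := h₅ (Fin s.card) T' π hcf G g hco (fun P q hq1 hq2 hq3 =>
    h₄ R hR p hp t hT.integral (fun P π h1 h2 h3 => hT.sec (𝟙 T) inferInstance π h1 h2 h3) (pullback.fst (t ≫ p) (resPt R))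
      (pullback.snd (t ≫ p) (resPt R)) (IsPullback.of_hasPullback _ _) q hq1 hq2 hq3)
  refine ⟨s.card, fun i => B (en i), fun i => b (en i), F, k, hbe, hcov, hk, ?_⟩
  intro i i' C K _ _ z l e e' e''
  have e₁ : (l ≫ C.m) ≫ b (en i) = (l ≫ C.m') ≫ b (en i') := e.symm.trans e'
  have h0 : pullback.lift z (l ≫ C.m) e ≫ π i = pullback.lift z (l ≫ C.m') e' ≫ π i' :=
    (pullback.lift_fst _ _ _).trans (pullback.lift_fst _ _ _).symm
  have h6 := hk' i i' (pullback.lift (pullback.lift z (l ≫ C.m) e) (pullback.lift z (l ≫ C.m') e') h0 default)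
  rw [hg i i' K _ _ h0 (z ≫ iT) ((Category.assoc _ _ _).symm.trans (congrArg (· ≫ iT) (pullback.lift_fst _ _ _)))
    (l ≫ C.m) (pullback.lift_snd _ _ _) (l ≫ C.m') (pullback.lift_snd _ _ _) ((Category.assoc _ _ _).trans e) e₁,
    app1 (pullback.lift_fst _ _ h0) default, app1 (pullback.lift_snd _ _ h0) default,
    c.val_pt (hbe i) (hbe i') C (z ≫ iT) l e'' (by
      rw [Scheme.Hom.comp_apply z iT]
      exact hiT _) _ _ rfl rfl] at h6
  exact h6

end K471.D1Coba
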